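import Mathlib.RingTheory.Smooth.Kaehler
import Mathlib.RingTheory.Extension.Cotangent.Basic
import Mathlib.RingTheory.Kaehler.Polynomial
import Mathlib.Algebra.Module.Projective
import Mathlib.RingTheory.Nilpotent.Basic

/-! Schanuel's lemma for cotangent complexes of two extensions of the same algebra. -/

universe u

set_option backward.isDefEq.respectTransparency false

open Algebra Algebra.Extension

namespace H1CotSch

variable {R S : Type u} [CommRing R] [CommRing S] [Algebra R S]

/-- Two extensions related by homs in both directions have stably equal cotangent modules. -/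
theorem nonempty_equiv_of_hom (P P' : Extension.{u} R S) (f : P.Hom P') (g : P'.Hom P)
    [Module.Projective S P'.CotangentSpace] :
    Nonempty ((P.Cotangent × P'.CotangentSpace) ≃ₗ[S] (P'.Cotangent × P.CotangentSpace)) := by
  let fA := Cotangent.map f
  let fF := CotangentSpace.map f
  let gA := Cotangent.map g
  let gF := CotangentSpace.map g
  let d := P.cotangentComplex
  let d' := P'.cotangentComplex
  let h : P.CotangentSpace →ₗ[S] P.Cotangent := (g.comp f).sub (Hom.id P)
  let h' : P'.CotangentSpace →ₗ[S] P'.Cotangent := (f.comp g).sub (Hom.id P')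
  have hF : ∀ a, fF (d a) = d' (fA a) := fun a => CotangentSpace.map_cotangentComplex f a
  have hG : ∀ b, gF (d' b) = d (gA b) := fun b => CotangentSpace.map_cotangentComplex g b
  have c1 : ∀ a, gA (fA a) = a + h (d a) := fun a => by
    have := DFunLike.congr_fun (Cotangent.map_sub_map (g.comp f) (Hom.id P)) a
    rw [LinearMap.sub_apply, Cotangent.map_comp, Cotangent.map_id] at this
    exact eq_add_of_sub_eq' this
  have c2 : ∀ b, fA (gA b) = b + h' (d' b) := fun b => by
    have := DFunLike.congr_fun (Cotangent.map_sub_map (f.comp g) (Hom.id P')) b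
    rw [LinearMap.sub_apply, Cotangent.map_comp, Cotangent.map_id] at this
    exact eq_add_of_sub_eq' this
  have c3 : ∀ x, gF (fF x) = x + d (h x) := fun x => by
    have := DFunLike.congr_fun (CotangentSpace.map_sub_map (g.comp f) (Hom.id P)) x
    rw [LinearMap.sub_apply, CotangentSpace.map_comp, CotangentSpace.map_id] at this
    exact eq_add_of_sub_eq' this
  have c4 : ∀ y, fF (gF y) = y + d' (h' y) := fun y => by
    have := DFunLike.congr_fun (CotangentSpace.map_sub_map (f.comp g) (Hom.id P')) y
    rw [LinearMap.sub_apply, CotangentSpace.map_comp, CotangentSpace.map_id] at this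
    exact eq_add_of_sub_eq' this
  let i : P.Cotangent →ₗ[S] P'.Cotangent × P.CotangentSpace := fA.prod (-d)
  let p : P'.Cotangent × P.CotangentSpace →ₗ[S] P'.CotangentSpace := d'.coprod fF
  have hi : Function.Injective i := by
    refine (injective_iff_map_eq_zero i).2 fun a ha => ?_
    have h1 : fA a = 0 := congrArg Prod.fst ha
    have h2 : d a = 0 := neg_eq_zero.1 (congrArg Prod.snd ha)
    have := c1 a
    rw [h1, h2, map_zero, map_zero, add_zero] at this
    exact this.symm
  have hex : Function.Exact i p := by
    rintro ⟨b, x⟩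
    refine ⟨fun hbx => ?_, ?_⟩
    · have hbx' : d' b + fF x = 0 := hbx
      have hda : d (gA b + h x) = -x := by
        rw [map_add, ← hG, eq_neg_of_add_eq_zero_left hbx', map_neg, c3]; abel
      have hδ : d' (fA (gA b + h x) - b) = 0 := by
        rw [map_sub, ← hF, hda, map_neg, eq_neg_of_add_eq_zero_left hbx', sub_self]
      have hgδ : gA (fA (gA b + h x) - b) = 0 := by
        rw [map_sub, c1, hda, map_neg]; abel
      have := c2 (fA (gA b + h x) - b)
      rw [hgδ, map_zero, hδ, map_zero, add_zero] at this
      exact ⟨gA b + h x, Prod.ext (sub_eq_zero.1 this.symm)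
        (by show -d (gA b + h x) = x; rw [hda, neg_neg])⟩
    · rintro ⟨a, ha⟩
      rw [← ha]
      show d' (fA a) + fF (-d a) = 0
      rw [map_neg, hF, add_neg_cancel]
  have hp : Function.Surjective p := fun y => ⟨(-h' y, gF y), by
    show d' (-h' y) + fF (gF y) = y
    rw [map_neg, c4]; abel⟩
  obtain ⟨s, hs⟩ := p.exists_rightInverse_of_surjective (LinearMap.range_eq_top.2 hp)
  obtain ⟨e, -⟩ := hex.splitSurjectiveEquiv hi ⟨s, hs⟩
  exact ⟨e.symm⟩

/-- A hom to an infinitesimal extension factors through the infinitesimal extension. -/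
noncomputable def descend {P P' : Extension.{u} R S} (f : P.Hom P'.infinitesimal) :
    P.infinitesimal.Hom P'.infinitesimal where
  toRingHom := Ideal.Quotient.lift _ f.toRingHom fun a ha => by
    have h1 : P.ker.map f.toRingHom ≤ P'.infinitesimal.ker := by
      refine Ideal.map_le_iff_le_comap.2 fun x hx => ?_
      show algebraMap P'.infinitesimal.Ring S (f.toRingHom x) = 0
      rw [f.algebraMap_toRingHom]; exact (congrArg _ (RingHom.mem_ker.1 hx)).trans (map_zero _)
    have h2 := Ideal.pow_right_mono h1 2 ((Ideal.map_pow f.toRingHom P.ker 2) ▸ Ideal.mem_map_of_mem f.toRingHom ha)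
    rwa [ker_infinitesimal, Ideal.cotangentIdeal_square, Ideal.mem_bot] at h2
  toRingHom_algebraMap x := f.toRingHom_algebraMap x
  algebraMap_toRingHom x := by
    obtain ⟨x, rfl⟩ := Ideal.Quotient.mk_surjective x
    exact f.algebraMap_toRingHom x

/-- It is enough to have homs to the infinitesimal extensions. -/
theorem nonempty_equiv (P P' : Extension.{u} R S) (f : P.Hom P'.infinitesimal) (g : P'.Hom P.infinitesimal)
    [Module.Projective S P'.CotangentSpace] :
    Nonempty ((P.Cotangent × P'.CotangentSpace) ≃ₗ[S] (P'.Cotangent × P.CotangentSpace)) := by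
  let eA := LinearEquiv.ofBijective _ (Cotangent.map_toInfinitesimal_bijective P)
  let eA' := LinearEquiv.ofBijective _ (Cotangent.map_toInfinitesimal_bijective P')
  let eF := LinearEquiv.ofBijective _ (CotangentSpace.map_toInfinitesimal_bijective P)
  let eF' := LinearEquiv.ofBijective _ (CotangentSpace.map_toInfinitesimal_bijective P')
  haveI := Module.Projective.of_equiv eF'
  obtain ⟨e⟩ := nonempty_equiv_of_hom P.infinitesimal P'.infinitesimal (descend f) (descend g)
  exact ⟨(eA.prodCongr eF').trans (e.trans (eA'.prodCongr eF).symm)⟩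

/-- A lift of a unit along a surjection with square-zero kernel is a unit. -/
theorem isUnit_infinitesimal (P : Extension.{u} R S) (z : P.infinitesimal.Ring)
    (hz : IsUnit (algebraMap P.infinitesimal.Ring S z)) : IsUnit z := by
  obtain ⟨w, hw⟩ := P.infinitesimal.algebraMap_surjective ↑(hz.unit⁻¹)
  have h0 : z * w - 1 ∈ P.infinitesimal.ker := by
    show algebraMap P.infinitesimal.Ring S (z * w - 1) = 0
    rw [map_sub, map_mul, hw, IsUnit.mul_val_inv, map_one, sub_self]
  have h00 : (z * w - 1) ^ 2 = 0 := by
    have := Ideal.pow_mem_pow h0 2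
    rwa [ker_infinitesimal, Ideal.cotangentIdeal_square, Ideal.mem_bot] at this
  have hu : IsUnit (z * w) := by
    have := IsNilpotent.isUnit_one_add (r := z * w - 1) ⟨2, h00⟩
    simpa using this
  exact isUnit_of_mul_isUnit_left hu

end H1CotSch
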